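import Groth.Prelude.Def_W4c2invhilbsl2
import Mathlib.LinearAlgebra.Dimension.Finite
import Mathlib.Algebra.BigOperators.Fin

/-!
# Weight pieces of diagonal gradings on polynomial rings: generators and rank bounds
-/

namespace GrothLib.InvHilbSL2

open MvPolynomial

universe u

variable {k : Type u} [Field k]

section Generators

variable {σ M : Type} [AddCommGroup M] (w : σ → M) {J : Type} [Fintype J]
  (g : J → MvPolynomial σ k) (P : Ideal (MvPolynomial σ k))

/-- `f` is, modulo `P`, a combination of the `g j` with coefficients of weight zero. -/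
def Good (f : MvPolynomial σ k) : Prop :=
  ∃ a : J → MvPolynomial σ k,
    (∀ j, a j ∈ weightedHomogeneousSubmodule k w 0) ∧ f - ∑ j, a j * g j ∈ P

variable {w g P}

theorem good_zero : Good w g P 0 :=
  ⟨0, fun _ => zero_mem _, by simp⟩

theorem Good.add {f f' : MvPolynomial σ k} (h : Good w g P f) (h' : Good w g P f') :
    Good w g P (f + f') := by
  obtain ⟨a, ha, ha'⟩ := h
  obtain ⟨b, hb, hb'⟩ := h'
  refine ⟨a + b, fun j => add_mem (ha j) (hb j), ?_⟩
  have e : f + f' - ∑ j, (a + b) j * g j = (f - ∑ j, a j * g j) + (f' - ∑ j, b j * g j) := by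
    simp only [Pi.add_apply, add_mul, Finset.sum_add_distrib]
    ring
  exact e ▸ P.add_mem ha' hb'

theorem Good.neg {f : MvPolynomial σ k} (h : Good w g P f) : Good w g P (-f) := by
  obtain ⟨a, ha, ha'⟩ := h
  refine ⟨-a, fun j => neg_mem (ha j), ?_⟩
  have e : -f - ∑ j, (-a) j * g j = -(f - ∑ j, a j * g j) := by
    simp only [Pi.neg_apply, neg_mul, Finset.sum_neg_distrib]
    ring
  exact e ▸ P.neg_mem ha'

theorem Good.congr {f f' : MvPolynomial σ k} (h : Good w g P f') (e : f - f' ∈ P) :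
    Good w g P f := by
  obtain ⟨a, ha, ha'⟩ := h
  refine ⟨a, ha, ?_⟩
  simpa using P.add_mem e ha'

theorem good_mul [DecidableEq J] (j : J) {a : MvPolynomial σ k}
    (ha : a ∈ weightedHomogeneousSubmodule k w 0) : Good w g P (a * g j) := by
  refine ⟨Pi.single j a, fun i => ?_, ?_⟩
  · rcases eq_or_ne i j with rfl | h
    · simpa using ha
    · simp [h]
  · simp [Pi.single_apply, Finset.sum_ite_eq', ite_mul]

/-- A monomial divisible by a generator of the same weight is good. -/
theorem good_monomial [DecidableEq J] {d e : σ →₀ ℕ} (j : J) (hg : g j = monomial e 1)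
    (hle : e ≤ d) (hw : Finsupp.weight w d = Finsupp.weight w e) (c : k) :
    Good w g P (monomial d c) := by
  have h0 : monomial d c = monomial (d - e) c * g j := by
    rw [hg, monomial_mul, mul_one, tsub_add_cancel_of_le hle]
  rw [h0]
  refine good_mul j (isWeightedHomogeneous_monomial w (d - e) c ?_)
  have h1 := congrArg (Finsupp.weight w) (tsub_add_cancel_of_le hle)
  rw [map_add, hw] at h1
  exact add_eq_right.1 h1

theorem good_of_monomials {ν : M} {f : MvPolynomial σ k}
    (hf : f ∈ weightedHomogeneousSubmodule k w ν)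
    (h : ∀ d c, Finsupp.weight w d = ν → Good w g P (monomial d c)) : Good w g P f := by
  rw [as_sum f]
  exact Finset.sum_induction _ _ (fun _ _ => Good.add) good_zero
    fun d hd => h d _ (hf (mem_support_iff.1 hd))

end Generators

section Rank

variable {σ M : Type} [AddCommMonoid M] (w : σ → M)

/-- If any two monomials of weight `ν` have proportional images, the piece has rank at most one. -/
theorem rank_piece_le_one (I : Ideal (MvPolynomial σ k)) (ν : M)
    (h : ∀ d d' : σ →₀ ℕ, Finsupp.weight w d = ν → Finsupp.weight w d' = ν →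
      (∃ c : k, Ideal.Quotient.mk I (monomial d 1) = c • Ideal.Quotient.mk I (monomial d' 1)) ∨
      (∃ c : k, Ideal.Quotient.mk I (monomial d' 1) = c • Ideal.Quotient.mk I (monomial d 1))) :
    Module.rank k (W4c2invhilbsl2.piece k w I ν) ≤ 1 := by
  classical
  suffices H : ∃ v : MvPolynomial σ k ⧸ I, ∀ d, Finsupp.weight w d = ν →
      Ideal.Quotient.mk I (monomial d 1) ∈ Submodule.span k {v} by
    obtain ⟨v, hv⟩ := H
    have hle : W4c2invhilbsl2.piece k w I ν ≤ Submodule.span k {v} := by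
      rintro _ ⟨f, hf, rfl⟩
      rw [as_sum f, map_sum]
      refine Submodule.sum_mem _ fun d hd => ?_
      have e : monomial d (coeff d f) = coeff d f • monomial d (1 : k) := by
        rw [smul_monomial, smul_eq_mul, mul_one]
      rw [e, map_smul]
      exact Submodule.smul_mem _ _ (hv d (hf (mem_support_iff.1 hd)))
    exact (Submodule.rank_mono hle).trans (by simpa using rank_span_le (R := k) ({v} : Set _))
  by_cases h0 : ∃ d, Finsupp.weight w d = ν ∧ Ideal.Quotient.mk I (monomial d (1 : k)) ≠ 0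
  · obtain ⟨d₀, hd₀, hne⟩ := h0
    refine ⟨Ideal.Quotient.mk I (monomial d₀ 1), fun d hd => Submodule.mem_span_singleton.2 ?_⟩
    rcases h d d₀ hd hd₀ with ⟨c, hc⟩ | ⟨c, hc⟩
    · exact ⟨c, hc.symm⟩
    · rcases eq_or_ne c 0 with rfl | hc0
      · exact absurd (by simpa using hc) hne
      · exact ⟨c⁻¹, by rw [hc, smul_smul, inv_mul_cancel₀ hc0, one_smul]⟩
  · refine ⟨0, fun d hd => ?_⟩
    push Not at h0
    rw [h0 d hd]
    exact zero_mem _

end Rank

section Weights

open W4c2invhilbsl2

variable (p q m : ℕ)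

theorem weight_wt5 (d : Fin 5 →₀ ℕ) :
    Finsupp.weight (wt5 p q m) d =
      ((d 0 : ℤ) - p * (d 1 + d 2) + q * (d 3 + d 4),
        (((d 3 : ℤ) + d 4 - (d 1 + d 2) : ℤ) : ZMod m)) := by
  rw [Finsupp.weight_apply, Finsupp.sum_fintype _ _ (by simp), Fin.sum_univ_five]
  ext <;> simp [wt5] <;> ring

theorem weight_wt3 (d : Fin 3 →₀ ℕ) :
    Finsupp.weight (wt3 p q m) d =
      ((d 0 : ℤ) - p * d 1 + q * d 2, (((d 2 : ℤ) - d 1 : ℤ) : ZMod m)) := by
  rw [Finsupp.weight_apply, Finsupp.sum_fintype _ _ (by simp), Fin.sum_univ_three]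
  ext <;> simp [wt3] <;> ring

theorem monomial_five (d : Fin 5 →₀ ℕ) :
    (monomial d 1 : MvPolynomial (Fin 5) k) =
      X 0 ^ d 0 * X 1 ^ d 1 * X 2 ^ d 2 * X 3 ^ d 3 * X 4 ^ d 4 := by
  rw [monomial_eq, C_1, one_mul, Finsupp.prod_fintype _ _ (by simp),
    Fin.prod_univ_five]

theorem monomial_three (d : Fin 3 →₀ ℕ) :
    (monomial d 1 : MvPolynomial (Fin 3) k) = X 0 ^ d 0 * X 1 ^ d 1 * X 2 ^ d 2 := by
  rw [monomial_eq, C_1, one_mul, Finsupp.prod_fintype _ _ (by simp),
    Fin.prod_univ_three]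

/-- Two equal weights in the coordinates of `ℤ × ZMod m`. -/
theorem exists_of_pair_eq {a a' b b' : ℤ}
    (h : (a, (b : ZMod m)) = (a', (b' : ZMod m))) : a = a' ∧ ∃ y : ℤ, b' - b = m * y := by
  obtain ⟨h1, h2⟩ := Prod.ext_iff.1 h
  exact ⟨h1, (ZMod.intCast_eq_intCast_iff_dvd_sub _ _ _).1 h2⟩

theorem pair_zero (a : ℤ) : (a, (0 : ZMod m)) = (a, ((0 : ℤ) : ZMod m)) := by simp

end Weights

end GrothLib.InvHilbSL2
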