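import Groth.Agent.Lib.InvHilbSL2.Basic
import Mathlib.RingTheory.Ideal.Span

/-!
# Reduction modulo the hypersurface in five variables
-/

namespace GrothLib.InvHilbSL2

open MvPolynomial W4c2invhilbsl2

universe u

variable {k : Type u} [Field k] (p q m : ℕ) {J : Type} [Fintype J]
  {g : J → MvPolynomial (Fin 5) k}

/-- The ideal of the hypersurface. -/
noncomputable abbrev hyper (k : Type u) [Field k] (p q : ℕ) : Ideal (MvPolynomial (Fin 5) k) :=
  Ideal.span {X (0 : Fin 5) ^ (q - p) - X 1 * X 4 + X 2 * X 3}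

/-- A monomial with a high power of `X 0` is good when its two reductions are. -/
theorem good_of_reduce (hpq : p < q) {d : Fin 5 →₀ ℕ} (hd : q - p ≤ d 0) (c : k)
    (h : ∀ d' : Fin 5 →₀ ℕ, Finsupp.weight (wt5 p q m) d' = Finsupp.weight (wt5 p q m) d →
      (1 ≤ d' 1 ∧ 1 ≤ d' 4 ∨ 1 ≤ d' 2 ∧ 1 ≤ d' 3) →
      ∀ c, Good (wt5 p q m) g (hyper k p q) (monomial d' c)) :
    Good (wt5 p q m) g (hyper k p q) (monomial d c) := by
  obtain ⟨e, he⟩ : ∃ e, e = d - Finsupp.single 0 (q - p) := ⟨_, rfl⟩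
  have hde : d = e + Finsupp.single 0 (q - p) :=
    (he ▸ tsub_add_cancel_of_le (Finsupp.single_le_iff.2 hd) : _).symm
  have h14 : Finsupp.weight (wt5 p q m) (e + Finsupp.single 1 1 + Finsupp.single 4 1) =
      Finsupp.weight (wt5 p q m) d := by
    rw [hde, add_assoc, map_add, map_add (Finsupp.weight (wt5 p q m)) e]
    congr 1
    rw [weight_wt5, weight_wt5]
    simp [Nat.cast_sub hpq.le]
    ring
  have h23 : Finsupp.weight (wt5 p q m) (e + Finsupp.single 2 1 + Finsupp.single 3 1) =
      Finsupp.weight (wt5 p q m) d := by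
    rw [hde, add_assoc, map_add, map_add (Finsupp.weight (wt5 p q m)) e]
    congr 1
    rw [weight_wt5, weight_wt5]
    simp [Nat.cast_sub hpq.le]
    ring
  refine ((h _ h14 (Or.inl ⟨by simp, by simp⟩) c).add
    (h _ h23 (Or.inr ⟨by simp, by simp⟩) c).neg).congr (Ideal.mem_span_singleton'.2 ⟨monomial e c, ?_⟩)
  have hX : ∀ (i : Fin 5) (n : ℕ), monomial (Finsupp.single i n) (1 : k) = X i ^ n := fun i n => by
    rw [X_pow_eq_monomial]
  have e0 : monomial d c = monomial e c * X 0 ^ (q - p) := by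
    rw [hde, ← hX, monomial_mul, mul_one]
  have e14 : monomial (e + Finsupp.single 1 1 + Finsupp.single 4 1) c =
      monomial e c * (X 1 * X 4) := by
    rw [X, X, monomial_mul, monomial_mul, one_mul, mul_one, add_assoc]
  have e23 : monomial (e + Finsupp.single 2 1 + Finsupp.single 3 1) c =
      monomial e c * (X 2 * X 3) := by
    rw [X, X, monomial_mul, monomial_mul, one_mul, mul_one, add_assoc]
  rw [e0, e14, e23]
  ring

end GrothLib.InvHilbSL2
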