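import Groth.Prelude.Def_W4c2invhilbsl2HJ
import Mathlib.Tactic.Linarith
import Mathlib.Tactic.FieldSimp
import Mathlib.Tactic.LinearCombination
import Mathlib.RingTheory.Coprime.Lemmas

/-!
# Hirzebruch–Jung continued fractions: digits, convergents and residues
-/

namespace GrothLib.InvHilbSL2

open W4c2invhilbsl2

theorem one_lt_hjVal : ∀ {l : List ℤ}, l ≠ [] → (∀ x ∈ l, (2 : ℤ) ≤ x) → 1 < HJFrac.hjVal l
  | [], h, _ => absurd rfl h
  | b :: l, _, h => by
    have hb : (2 : ℚ) ≤ (b : ℚ) := by exact_mod_cast h b List.mem_cons_self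
    have hl : (HJFrac.hjVal l)⁻¹ < 1 := by
      rcases eq_or_ne l [] with rfl | hl
      · norm_num [HJFrac.hjVal]
      · exact inv_lt_one_of_one_lt₀ (one_lt_hjVal hl fun x hx => h x (List.mem_cons_of_mem _ hx))
    rw [HJFrac.hjVal]
    linarith

/-- The Euclidean-type sequence of a continued fraction decreases to zero. -/
theorem hjVal_sequence (c : List ℤ) : ∀ (u : ℕ → ℤ), (∀ x ∈ c, (2 : ℤ) ≤ x) →
    (∀ i, i < c.length → u (i + 2) = c.getD i 0 * u (i + 1) - u i) → 0 < u 0 → 0 < u 1 →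
    HJFrac.hjVal c = (u 0 : ℚ) / (u 1 : ℚ) →
    (∀ i, i ≤ c.length → 0 < u i ∧ u (i + 1) < u i) ∧ u (c.length + 1) = 0 := by
  induction c with
  | nil =>
    intro u _ _ h0 h1 hv
    rw [HJFrac.hjVal] at hv
    have : (0 : ℚ) < (u 0 : ℚ) / (u 1 : ℚ) := div_pos (by exact_mod_cast h0) (by exact_mod_cast h1)
    linarith
  | cons b l ih =>
    intro u hd hrec h0 h1 hv
    have hb : 2 ≤ b := hd b List.mem_cons_self
    have hl2 : ∀ x ∈ l, (2 : ℤ) ≤ x := fun x hx => hd x (List.mem_cons_of_mem _ hx)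
    have hu2 : u 2 = b * u 1 - u 0 := by simpa using hrec 0 (by simp)
    have h1' : (u 1 : ℚ) ≠ 0 := by exact_mod_cast h1.ne'
    have hinv : (HJFrac.hjVal l)⁻¹ = (u 2 : ℚ) / (u 1 : ℚ) := by
      rw [HJFrac.hjVal] at hv
      rw [hu2]
      push_cast
      rw [sub_div, mul_div_assoc, div_self h1', mul_one]
      linarith
    rcases eq_or_ne l [] with rfl | hl
    · have h2 : u 2 = 0 := by
        rw [HJFrac.hjVal, inv_zero, eq_comm, div_eq_zero_iff] at hinv
        exact_mod_cast hinv.resolve_right h1'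
      refine ⟨fun i hi => ?_, by simpa using h2⟩
      simp only [List.length_singleton] at hi
      interval_cases i
      · exact ⟨h0, by nlinarith⟩
      · exact ⟨h1, by simpa [h2] using h1⟩
    · have hgt := one_lt_hjVal hl hl2
      have hpos : 0 < HJFrac.hjVal l := by linarith
      have h2pos : 0 < u 2 := by
        have : (0 : ℚ) < (u 2 : ℚ) / (u 1 : ℚ) := hinv ▸ inv_pos.2 hpos
        exact_mod_cast (div_pos_iff_of_pos_right (by exact_mod_cast h1)).1 this
      have h2lt : u 2 < u 1 := by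
        have : (u 2 : ℚ) / (u 1 : ℚ) < 1 := hinv ▸ inv_lt_one_of_one_lt₀ hgt
        exact_mod_cast (div_lt_one (by exact_mod_cast h1)).1 this
      have hval : HJFrac.hjVal l = (u 1 : ℚ) / (u 2 : ℚ) := by rw [← inv_inv (HJFrac.hjVal l), hinv, inv_div]
      obtain ⟨hA, hB⟩ := ih (fun i => u (i + 1)) hl2
        (fun i hi => by simpa [Nat.add_right_comm] using hrec (i + 1) (by simpa using hi)) h1 h2pos hval
      refine ⟨fun i hi => ?_, hB⟩
      cases i with
      | zero => exact ⟨h0, by nlinarith⟩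
      | succ i => exact hA i (by simpa using hi)

section

variable {p q m : ℕ} {c : List ℤ}

/-- `t Pᵢ - b Qᵢ`, so that `nᵢ = g uᵢ`. -/
def uu (p q m : ℕ) (c : List ℤ) (i : ℕ) : ℤ :=
  (tT p q m : ℤ) * hjP c i - (bB p q m : ℤ) * hjQ c i

theorem uu_rec (i : ℕ) : uu p q m c (i + 2) = c.getD i 0 * uu p q m c (i + 1) - uu p q m c i := by
  rw [uu, uu, uu, hjP, hjQ]; ring

theorem uu_zero : uu p q m c 0 = bB p q m := by simp [uu, hjP, hjQ]

theorem uu_one : uu p q m c 1 = tT p q m := by simp [uu, hjP, hjQ]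

theorem det_hjP_hjQ : ∀ i, hjP c (i + 1) * hjQ c i - hjP c i * hjQ c (i + 1) = -1
  | 0 => by simp [hjP, hjQ]
  | i + 1 => by rw [hjP, hjQ]; linear_combination det_hjP_hjQ i

theorem eE_eq (i : ℕ) : eE p q m c i = lL p q m c i + m * hjP c i := by
  rw [eE, lL]; push_cast; ring

theorem nN_eq' (i : ℕ) :
    nN p q m c i = ((q : ℤ) - p) * lL p q m c i - p * m * hjP c i := by
  rw [nN, eE_eq]; ring

variable (hpq : p < q)
include hpq

theorem bB_mul : (bB p q m : ℤ) * gcdK p q m = (q : ℤ) - p := by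
  have h : bB p q m * gcdK p q m = q - p := Nat.div_mul_cancel (Nat.gcd_dvd_right _ _)
  rw [← Nat.cast_sub hpq.le]
  exact_mod_cast h

theorem tT_mul :
    (tT p q m : ℤ) * gcdK p q m = (q : ℤ) - p - ((m * p % (q - p) : ℕ) : ℤ) := by
  have hlt : m * p % (q - p) < q - p := Nat.mod_lt _ (by omega)
  have h : tT p q m * gcdK p q m = q - p - m * p % (q - p) :=
    Nat.div_mul_cancel (Nat.dvd_sub (Nat.gcd_dvd_right _ _)
      ((Nat.dvd_mod_iff (Nat.gcd_dvd_right _ _)).2 (dvd_mul_of_dvd_left (Nat.gcd_dvd_left _ _) p)))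
  rw [← Nat.cast_sub hpq.le, ← Nat.cast_sub hlt.le]
  exact_mod_cast h

theorem mul_eq_alpha :
    (p : ℤ) * m = ((q : ℤ) - p) * alpha p q m + ((m * p % (q - p) : ℕ) : ℤ) := by
  have h : (q - p) * alpha p q m + m * p % (q - p) = m * p := Nat.div_add_mod _ _
  rw [← Nat.cast_sub hpq.le]
  have h' := congrArg (Nat.cast : ℕ → ℤ) h
  rw [Nat.cast_add, Nat.cast_mul, Nat.cast_mul] at h'
  linarith

theorem nN_eq (i : ℕ) : nN p q m c i = (gcdK p q m : ℤ) * uu p q m c i := by
  rw [nN_eq', lL, uu]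
  push_cast
  linear_combination hjP c i * (-(tT_mul (m := m) hpq)) - hjP c i * mul_eq_alpha (m := m) hpq
    + hjQ c i * bB_mul (m := m) hpq

variable (hcop : Nat.Coprime p q) (hm : 0 < m)
include hcop hm

omit hpq hcop in
theorem gcdK_pos : 0 < gcdK p q m := Nat.gcd_pos_of_pos_left _ hm

theorem tT_pos : 0 < tT p q m := by
  refine Nat.pos_of_ne_zero fun h => ?_
  have := tT_mul (m := m) hpq
  have hlt : m * p % (q - p) < q - p := Nat.mod_lt _ (by omega)
  rw [h] at this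
  simp only [Nat.cast_zero, zero_mul] at this
  omega

theorem bB_pos : 0 < bB p q m :=
  Nat.div_pos (Nat.le_of_dvd (by omega) (Nat.gcd_dvd_right _ _)) (gcdK_pos (p := p) (q := q) hm)

theorem coprime_tT_bB : Nat.Coprime (tT p q m) (bB p q m) := by
  refine Nat.eq_one_of_dvd_one ?_
  have hg := gcdK_pos (p := p) (q := q) hm
  set d := Nat.gcd (tT p q m) (bB p q m)
  have h1 : ((d * gcdK p q m : ℕ) : ℤ) ∣ (q : ℤ) - p := by
    rw [← bB_mul (m := m) hpq]; push_cast
    exact mul_dvd_mul_right (Int.natCast_dvd_natCast.2 (Nat.gcd_dvd_right _ _)) _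
  have h2 : ((d * gcdK p q m : ℕ) : ℤ) ∣ ((m * p % (q - p) : ℕ) : ℤ) := by
    have h3 : ((d * gcdK p q m : ℕ) : ℤ) ∣ (tT p q m : ℤ) * gcdK p q m := by
      push_cast
      exact mul_dvd_mul_right (Int.natCast_dvd_natCast.2 (Nat.gcd_dvd_left _ _)) _
    rw [tT_mul (m := m) hpq] at h3
    simpa using dvd_sub h1 h3
  rw [← Nat.cast_sub hpq.le] at h1
  have h1' := Int.natCast_dvd_natCast.1 h1
  have h4 : d * gcdK p q m ∣ m * p := (Nat.dvd_mod_iff h1').1 (Int.natCast_dvd_natCast.1 h2)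
  have hc : Nat.Coprime (d * gcdK p q m) p :=
    Nat.Coprime.coprime_dvd_left h1' ((Nat.coprime_sub_self_left hpq.le).2 hcop.symm)
  have h5 : d * gcdK p q m ∣ gcdK p q m := Nat.dvd_gcd (hc.dvd_of_dvd_mul_right h4) h1'
  exact (Nat.mul_dvd_mul_iff_right hg).1 (by rwa [one_mul])

variable (hc : IsHJDigits p q m c)
include hc

theorem uu_seq :
    (∀ i, i ≤ c.length → 0 < uu p q m c i ∧ uu p q m c (i + 1) < uu p q m c i) ∧
      uu p q m c (c.length + 1) = 0 :=
  hjVal_sequence c (uu p q m c) hc.1 (fun i _ => uu_rec i)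
    (by rw [uu_zero]; exact_mod_cast bB_pos hpq hcop hm)
    (by rw [uu_one]; exact_mod_cast tT_pos hpq hcop hm)
    (by rw [uu_zero, uu_one, hc.2]; norm_num)

theorem uu_nonneg {i : ℕ} (hi : i ≤ c.length + 1) : 0 ≤ uu p q m c i := by
  obtain ⟨hA, hB⟩ := uu_seq hpq hcop hm hc
  rcases Nat.lt_or_ge i (c.length + 1) with h | h
  · exact (hA i (by omega)).1.le
  · rw [show i = c.length + 1 by omega, hB]

theorem uu_lt_uu_zero : ∀ {i : ℕ}, 1 ≤ i → i ≤ c.length + 1 → uu p q m c i < uu p q m c 0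
  | 0, h, _ => absurd h (by omega)
  | 1, _, _ => ((uu_seq hpq hcop hm hc).1 0 (Nat.zero_le _)).2
  | i + 2, _, h => lt_trans ((uu_seq hpq hcop hm hc).1 (i + 1) (by omega)).2
      (uu_lt_uu_zero (by omega) (by omega))

theorem uu_last : uu p q m c c.length = 1 := by
  obtain ⟨hA, hB⟩ := uu_seq hpq hcop hm hc
  have key : ∀ j, j ≤ c.length → uu p q m c c.length ∣ uu p q m c (c.length - j) ∧
      uu p q m c c.length ∣ uu p q m c (c.length - j + 1) := by
    intro j
    induction j with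
    | zero => intro _; simp [hB]
    | succ j ih =>
      intro hj
      obtain ⟨h1, h2⟩ := ih (by omega)
      have e : c.length - (j + 1) + 1 = c.length - j := by omega
      refine ⟨?_, by rwa [e]⟩
      have hr := uu_rec (p := p) (q := q) (m := m) (c := c) (c.length - (j + 1))
      rw [show c.length - (j + 1) + 2 = c.length - j + 1 by omega, e] at hr
      rw [show uu p q m c (c.length - (j + 1)) = c.getD (c.length - (j + 1)) 0 *
        uu p q m c (c.length - j) - uu p q m c (c.length - j + 1) by linarith]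
      exact dvd_sub (dvd_mul_of_dvd_right h1 _) h2
  obtain ⟨h1, h2⟩ := key c.length le_rfl
  rw [Nat.sub_self] at h1 h2
  rw [uu_zero] at h1
  rw [uu_one] at h2
  obtain ⟨a, b, hab⟩ := Nat.isCoprime_iff_coprime.2 (coprime_tT_bB hpq hcop hm)
  have h3 : uu p q m c c.length ∣ 1 := hab ▸ dvd_add (dvd_mul_of_dvd_right h2 a) (dvd_mul_of_dvd_right h1 b)
  exact le_antisymm (Int.le_of_dvd one_pos h3) (hA c.length le_rfl).1

omit hpq hcop hm in
theorem hjP_mono : ∀ {i : ℕ}, i ≤ c.length → 0 ≤ hjP c i ∧ hjP c i < hjP c (i + 1)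
  | 0, _ => by simp [hjP]
  | i + 1, h => by
    obtain ⟨h0, h1⟩ := hjP_mono (show i ≤ c.length by omega)
    have hmem : c.getD i 0 ∈ c := by
      rw [List.getD_eq_getElem _ _ (show i < c.length by omega)]
      exact List.getElem_mem _
    have h2 := hc.1 _ hmem
    refine ⟨by linarith, ?_⟩
    rw [show hjP c (i + 1 + 1) = c.getD i 0 * hjP c (i + 1) - hjP c i from rfl]
    nlinarith

/-- Residues below a convergent are at least the previous term. -/
theorem uu_le_of_residue {j : ℕ} (hji : j + 1 ≤ c.length) {x y : ℤ}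
    (hx0 : 0 < x) (hx : x < hjP c (j + 1))
    (hρ : 0 ≤ (tT p q m : ℤ) * x - (bB p q m : ℤ) * y) :
    uu p q m c j ≤ (tT p q m : ℤ) * x - (bB p q m : ℤ) * y := by
  obtain ⟨hA, -⟩ := uu_seq hpq hcop hm hc
  have hdet := det_hjP_hjQ (c := c) j
  obtain ⟨hP0, hP1⟩ := hjP_mono hc (show j ≤ c.length by omega)
  obtain ⟨hu1, -⟩ := hA (j + 1) hji
  obtain ⟨hu0, hu01⟩ := hA j (by omega)
  obtain ⟨A, hAdef⟩ : ∃ A, A = y * hjP c j - x * hjQ c j := ⟨_, rfl⟩
  obtain ⟨B, hBdef⟩ : ∃ B, B = x * hjQ c (j + 1) - y * hjP c (j + 1) := ⟨_, rfl⟩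
  have hx' : x = A * hjP c (j + 1) + B * hjP c j := by
    subst hAdef hBdef; linear_combination x * hdet
  have hρ' : (tT p q m : ℤ) * x - (bB p q m : ℤ) * y =
      A * uu p q m c (j + 1) + B * uu p q m c j := by
    subst hAdef hBdef; rw [uu, uu]
    linear_combination ((tT p q m : ℤ) * x - (bB p q m : ℤ) * y) * hdet
  rw [hρ'] at hρ ⊢
  rcases lt_trichotomy B 0 with hB | hB | hB
  · exfalso
    have hA0 : -B < A := by
      by_contra hle
      have : A * uu p q m c (j + 1) ≤ -B * uu p q m c (j + 1) :=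
        mul_le_mul_of_nonneg_right (not_lt.1 hle) hu1.le
      nlinarith
    nlinarith
  · exfalso
    subst hB
    rcases le_or_gt A 0 with h | h
    · nlinarith
    · nlinarith
  · have hA0 : A ≤ 0 := by
      by_contra hgt
      nlinarith
    have hAB : -A < B := by
      by_contra hle
      nlinarith [mul_le_mul_of_nonneg_right (not_lt.1 hle) hP0]
    nlinarith

/-- The form in which the residue bound is used for weights. -/
theorem nN_le_of_dvd {i : ℕ} (hi : 1 ≤ i) (hir : i ≤ c.length) {y r : ℤ}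
    (hy0 : 0 < y) (hy : y < hjP c i) (hr : 0 ≤ r)
    (hdvd : (q : ℤ) - p ∣ (p : ℤ) * m * y + r) : nN p q m c (i - 1) ≤ r := by
  obtain ⟨j, rfl⟩ : ∃ j, i = j + 1 := ⟨i - 1, by omega⟩
  obtain ⟨z, hz⟩ := hdvd
  have hg : (0 : ℤ) < gcdK p q m := by exact_mod_cast gcdK_pos (p := p) (q := q) hm
  obtain ⟨z', hz'⟩ : ∃ z', z' = -(z - (alpha p q m : ℤ) * y - y) := ⟨_, rfl⟩
  have hr' : r = (gcdK p q m : ℤ) * ((tT p q m : ℤ) * y - (bB p q m : ℤ) * z') := by
    subst hz'
    linear_combination hz - y * mul_eq_alpha (m := m) hpq - y * tT_mul (m := m) hpq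
      - (z - (alpha p q m : ℤ) * y - y) * bB_mul (m := m) hpq
  have hρ : 0 ≤ (tT p q m : ℤ) * y - (bB p q m : ℤ) * z' :=
    (mul_nonneg_iff_of_pos_left hg).1 (hr' ▸ hr)
  rw [Nat.add_sub_cancel, nN_eq hpq, hr']
  exact mul_le_mul_of_nonneg_left (uu_le_of_residue hpq hcop hm hc hir hy0 hy hρ) hg.le

theorem nN_bounds {i : ℕ} (hi : 1 ≤ i) (hir : i ≤ c.length) :
    0 < nN p q m c i ∧ nN p q m c i < nN p q m c (i - 1) ∧ nN p q m c (i - 1) ≤ (q : ℤ) - p ∧
      1 ≤ hjP c i ∧ 1 ≤ lL p q m c i ∧ 1 ≤ eE p q m c i := by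
  obtain ⟨hA, -⟩ := uu_seq hpq hcop hm hc
  have hg : (0 : ℤ) < gcdK p q m := by exact_mod_cast gcdK_pos (p := p) (q := q) hm
  have hpos : 0 < nN p q m c i := nN_eq (c := c) hpq i ▸ mul_pos hg (hA i hir).1
  have hlt : nN p q m c i < nN p q m c (i - 1) := by
    rw [nN_eq hpq, nN_eq hpq]
    refine mul_lt_mul_of_pos_left ?_ hg
    have := (hA (i - 1) (by omega)).2
    rwa [show i - 1 + 1 = i by omega] at this
  have hle : nN p q m c (i - 1) ≤ (q : ℤ) - p := by
    rw [nN_eq hpq, ← bB_mul (m := m) hpq, mul_comm _ (gcdK p q m : ℤ), ← uu_zero (c := c)]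
    refine mul_le_mul_of_nonneg_left ?_ hg.le
    rcases Nat.eq_zero_or_pos (i - 1) with h | h
    · rw [h]
    · exact (uu_lt_uu_zero hpq hcop hm hc h (by omega)).le
  have hP : 1 ≤ hjP c i := by
    obtain ⟨j, rfl⟩ : ∃ j, i = j + 1 := ⟨i - 1, by omega⟩
    obtain ⟨h0, h1⟩ := hjP_mono hc (show j ≤ c.length by omega)
    omega
  have hl : 1 ≤ lL p q m c i := by
    have e := nN_eq' (p := p) (q := q) (m := m) (c := c) i
    have hd : (0 : ℤ) ≤ p * m * hjP c i := by positivity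
    by_contra h
    have : ((q : ℤ) - p) * lL p q m c i ≤ 0 :=
      mul_nonpos_of_nonneg_of_nonpos (by omega) (by omega)
    omega
  refine ⟨hpos, hlt, hle, hP, hl, ?_⟩
  rw [eE_eq]
  have : (0 : ℤ) ≤ m * hjP c i := by positivity
  omega

end

end GrothLib.InvHilbSL2
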