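import Groth.Agent.Lib.InvHilbSL2.HJ
import Groth.Agent.Lib.InvHilbSL2.Basic

/-!
# Monomials of a given weight relative to one Hirzebruch–Jung step
-/

namespace GrothLib.InvHilbSL2

open MvPolynomial W4c2invhilbsl2

variable {p q m : ℕ} {c : List ℤ} (hpq : p < q) (hcop : Nat.Coprime p q) (hm : 0 < m)
  (hc : IsHJDigits p q m c) {i : ℕ} (hi : 1 ≤ i) (hir : i ≤ c.length)
include hpq hcop hm hc hi hir

theorem diff_cases {δ₀ δ₁ δ₂ y : ℤ} (hy : 0 < y) (h1 : δ₁ - δ₂ = m * y)
    (h0 : δ₀ = p * m * y - ((q : ℤ) - p) * δ₂)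
    (hlt : δ₀ < nN p q m c (i - 1)) (hgt : -nN p q m c (i - 1) < δ₀) :
    (0 ≤ δ₀ ∧ 0 ≤ δ₁ ∧ 0 ≤ δ₂) ∨ (eE p q m c i ≤ δ₁ ∧ lL p q m c i ≤ δ₂) := by
  obtain ⟨hn, hnlt, hnle, hP, hl, he⟩ := nN_bounds hpq hcop hm hc hi hir
  have hpm : (0 : ℤ) ≤ p * m := by positivity
  have hmy : (0 : ℤ) ≤ m * y := by positivity
  have h2 : 0 ≤ δ₂ := by
    by_contra h
    have h3 : ((q : ℤ) - p) * δ₂ ≤ ((q : ℤ) - p) * (-1) :=
      mul_le_mul_of_nonneg_left (by omega) (by omega)
    have h4 : (0 : ℤ) ≤ p * m * y := mul_nonneg hpm hy.le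
    omega
  rcases le_or_gt 0 δ₀ with h | h
  · exact Or.inl ⟨h, by omega, h2⟩
  refine Or.inr ?_
  have hyP : hjP c i ≤ y := by
    by_contra hlt'
    have := nN_le_of_dvd hpq hcop hm hc hi hir hy (not_le.1 hlt') (r := -δ₀) (by omega)
      ⟨δ₂, by linear_combination -h0⟩
    omega
  have hmul : (p : ℤ) * m * hjP c i ≤ p * m * y := mul_le_mul_of_nonneg_left hyP hpm
  have hmul' : (m : ℤ) * hjP c i ≤ m * y := mul_le_mul_of_nonneg_left hyP (by omega)
  have hl2 : lL p q m c i ≤ δ₂ := by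
    by_contra h'
    have h3 : ((q : ℤ) - p) * δ₂ ≤ ((q : ℤ) - p) * (lL p q m c i - 1) :=
      mul_le_mul_of_nonneg_left (by omega) (by omega)
    have e := nN_eq' (p := p) (q := q) (m := m) (c := c) i
    rw [mul_sub, mul_one] at h3
    omega
  have := eE_eq (p := p) (q := q) (m := m) (c := c) i
  exact ⟨by omega, hl2⟩

theorem high_or_divisible {d₀ u₁ u₂ : ℕ} {y : ℤ}
    (h0 : (d₀ : ℤ) - p * u₁ + q * u₂ = nN p q m c i) (h1 : (u₁ : ℤ) - u₂ = m * y) :
    nN p q m c i ≤ (d₀ : ℤ) ∨ (eE p q m c i ≤ (u₁ : ℤ) ∧ lL p q m c i ≤ (u₂ : ℤ)) := by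
  obtain ⟨hn, hnlt, hnle, hP, hl, he⟩ := nN_bounds hpq hcop hm hc hi hir
  by_contra hcon
  rw [not_or, not_le] at hcon
  obtain ⟨hd, hnot⟩ := hcon
  have h0' : (d₀ : ℤ) - nN p q m c i = p * m * y - ((q : ℤ) - p) * u₂ := by
    linear_combination h0 + (p : ℤ) * h1
  rcases le_or_gt y 0 with hy | hy
  · have h3 : (p : ℤ) * m * y ≤ 0 := mul_nonpos_of_nonneg_of_nonpos (by positivity) hy
    have h4 : (m : ℤ) * y ≤ 0 := mul_nonpos_of_nonneg_of_nonpos (by positivity) hy
    rcases Nat.eq_zero_or_pos u₂ with hu | hu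
    · subst hu
      have hu1 : (u₁ : ℤ) = 0 := by omega
      rw [hu1] at h0
      simp at h0
      omega
    · have h5 : ((q : ℤ) - p) * 1 ≤ ((q : ℤ) - p) * u₂ :=
        mul_le_mul_of_nonneg_left (by omega) (by omega)
      omega
  · rcases diff_cases hpq hcop hm hc hi hir (δ₀ := (d₀ : ℤ) - nN p q m c i) hy h1 h0'
      (by omega) (by omega) with h | h
    · omega
    · exact hnot h

/-- Monomials outside the monomial part of the ideal. -/
def IsNormal (p q m : ℕ) (c : List ℤ) (i : ℕ) (d : Fin 3 →₀ ℕ) : Prop :=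
  (d 0 : ℤ) < nN p q m c (i - 1) ∧ ¬ (eE p q m c i ≤ (d 1 : ℤ) ∧ lL p q m c i ≤ (d 2 : ℤ)) ∧
    ∀ e : Fin 3 →₀ ℕ, e ≤ d → Finsupp.weight (wt3 p q m) e = 0 → e = 0

theorem normal_unique_aux {d d' : Fin 3 →₀ ℕ} {y : ℤ} (hy : 0 ≤ y)
    (hd : IsNormal p q m c i d) (hd' : IsNormal p q m c i d')
    (h0 : (d 0 : ℤ) - p * d 1 + q * d 2 = (d' 0 : ℤ) - p * d' 1 + q * d' 2)
    (h1 : ((d' 1 : ℤ) - d' 2) - ((d 1 : ℤ) - d 2) = m * y) : d = d' := by
  obtain ⟨hn, hnlt, hnle, hP, hl, he⟩ := nN_bounds hpq hcop hm hc hi hir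
  have hδ : (d' 0 : ℤ) - d 0 = p * m * y - ((q : ℤ) - p) * ((d' 2 : ℤ) - d 2) := by
    linear_combination -h0 + (p : ℤ) * h1
  have hlt1 := hd.1
  have hlt2 := hd'.1
  rcases hy.eq_or_lt with rfl | hy
  · have h22 : (d' 2 : ℤ) = d 2 := by
      by_contra hne
      rcases lt_or_gt_of_ne hne with h | h
      · have : ((q : ℤ) - p) * ((d' 2 : ℤ) - d 2) ≤ ((q : ℤ) - p) * (-1) :=
          mul_le_mul_of_nonneg_left (by omega) (by omega)
        omega
      · have : ((q : ℤ) - p) * 1 ≤ ((q : ℤ) - p) * ((d' 2 : ℤ) - d 2) :=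
          mul_le_mul_of_nonneg_left (by omega) (by omega)
        omega
    rw [h22, sub_self, mul_zero] at hδ
    simp only [mul_zero] at hδ h1
    ext j
    fin_cases j <;> simp <;> omega
  · rcases diff_cases hpq hcop hm hc hi hir hy
      (δ₁ := (d' 1 : ℤ) - d 1) (by linarith) hδ (by omega) (by omega) with h | h
    · have hle : d ≤ d' := fun j => by fin_cases j <;> simp <;> omega
      have hw : Finsupp.weight (wt3 p q m) (d' - d) = 0 := by
        refine (add_eq_right (b := Finsupp.weight (wt3 p q m) d)).1 ?_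
        rw [← map_add, tsub_add_cancel_of_le hle, weight_wt3, weight_wt3, h0]
        refine Prod.ext rfl ((ZMod.intCast_eq_intCast_iff_dvd_sub _ _ _).2 ⟨y, ?_⟩)
        linarith
      have := hd'.2.2 (d' - d) tsub_le_self hw
      exact le_antisymm hle (tsub_eq_zero_iff_le.1 this)
    · exact absurd ⟨by omega, by omega⟩ hd'.2.1

theorem normal_unique {d d' : Fin 3 →₀ ℕ} (hd : IsNormal p q m c i d) (hd' : IsNormal p q m c i d')
    (hw : Finsupp.weight (wt3 p q m) d = Finsupp.weight (wt3 p q m) d') : d = d' := by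
  rw [weight_wt3, weight_wt3] at hw
  obtain ⟨h0, y, hy⟩ := exists_of_pair_eq m hw
  rcases le_or_gt 0 y with h | h
  · exact (normal_unique_aux hpq hcop hm hc hi hir h hd' hd h0.symm (by linarith)).symm
  · exact normal_unique_aux hpq hcop hm hc hi hir (y := -y) (by omega) hd hd' h0 (by linarith)

universe u in
/-- The weight pieces of the quotient by `idealL` have rank at most one. -/
theorem rank_piece_idealL_le_one (k : Type u) [Field k] (s : k) (ν : ℤ × ZMod m) :
    Module.rank k (piece k (wt3 p q m) (idealL k p q m c i s) ν) ≤ 1 := by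
  obtain ⟨hn, hnlt, hnle, hP, hl, he⟩ := nN_bounds hpq hcop hm hc hi hir
  set I := idealL k p q m c i s
  obtain ⟨N, hN⟩ : ∃ N, N = (nN p q m c (i - 1)).toNat := ⟨_, rfl⟩
  obtain ⟨n, hn'⟩ : ∃ n, n = (nN p q m c i).toNat := ⟨_, rfl⟩
  obtain ⟨e, he'⟩ : ∃ e, e = (eE p q m c i).toNat := ⟨_, rfl⟩
  obtain ⟨l, hl'⟩ : ∃ l, l = (lL p q m c i).toNat := ⟨_, rfl⟩
  have hK : idealK k p q m ≤ I := le_sup_right
  have hzero : Ideal.Quotient.mk I (X 0 ^ N) = 0 := Ideal.Quotient.eq_zero_iff_mem.2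
    (Ideal.mem_sup_left (Ideal.subset_span (by simp [hN])))
  have hrel : Ideal.Quotient.mk I (X 1 ^ e * X 2 ^ l) = s • Ideal.Quotient.mk I (X 0 ^ n) := by
    have h : Ideal.Quotient.mk I (C s * X 0 ^ n) = Ideal.Quotient.mk I (X 1 ^ e * X 2 ^ l) :=
      Ideal.Quotient.eq.2 (Ideal.mem_sup_left (Ideal.subset_span (by simp [hn', he', hl'])))
    rw [← h, ← smul_eq_C_mul]
    rfl
  have key : ∀ (j : ℕ) (d : Fin 3 →₀ ℕ), d 2 = j → Ideal.Quotient.mk I (monomial d 1) = 0 ∨
      ∃ (a : k) (d' : Fin 3 →₀ ℕ), IsNormal p q m c i d' ∧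
        Finsupp.weight (wt3 p q m) d' = Finsupp.weight (wt3 p q m) d ∧
        Ideal.Quotient.mk I (monomial d 1) = a • Ideal.Quotient.mk I (monomial d' 1) := by
    intro j
    induction j using Nat.strong_induction_on with
    | _ j ih =>
      intro d hj
      by_cases hd0 : N ≤ d 0
      · left
        rw [← tsub_add_cancel_of_le (Finsupp.single_le_iff.2 hd0), ← mul_one (1 : k),
          ← monomial_mul, ← X_pow_eq_monomial, map_mul, hzero, mul_zero]
      by_cases hde : ∃ w, w ≤ d ∧ Finsupp.weight (wt3 p q m) w = 0 ∧ w ≠ 0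
      · left
        obtain ⟨w, hwd, hw, hw0⟩ := hde
        rw [← tsub_add_cancel_of_le hwd, ← mul_one (1 : k), ← monomial_mul, map_mul]
        have hw' : Ideal.Quotient.mk I (monomial w (1 : k)) = 0 :=
          Ideal.Quotient.eq_zero_iff_mem.2 (hK (Ideal.subset_span ⟨w, hw0, hw, rfl⟩))
        rw [hw', mul_zero]
      by_cases hdl : e ≤ d 1 ∧ l ≤ d 2
      · obtain ⟨r, hr⟩ : ∃ r, r = d - (Finsupp.single 1 e + Finsupp.single 2 l) := ⟨_, rfl⟩
        have hle : Finsupp.single 1 e + Finsupp.single 2 l ≤ d := fun x => by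
          fin_cases x <;> simp [hdl.1, hdl.2]
        have hd : d = r + (Finsupp.single 1 e + Finsupp.single 2 l) :=
          (hr ▸ tsub_add_cancel_of_le hle : _).symm
        have hw : Finsupp.weight (wt3 p q m) (r + Finsupp.single 0 n) =
            Finsupp.weight (wt3 p q m) d := by
          rw [hd, map_add, map_add (Finsupp.weight (wt3 p q m)) r]
          congr 1
          rw [weight_wt3, weight_wt3]
          have e1 := eE_eq (p := p) (q := q) (m := m) (c := c) i
          have e2 := nN_eq' (p := p) (q := q) (m := m) (c := c) i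
          have he1 : (e : ℤ) = eE p q m c i := by omega
          have hl1 : (l : ℤ) = lL p q m c i := by omega
          have hn1 : (n : ℤ) = nN p q m c i := by omega
          refine Prod.ext ?_ ((ZMod.intCast_eq_intCast_iff_dvd_sub _ _ _).2 ⟨-hjP c i, ?_⟩)
          · simp [he1, hl1, hn1]; linear_combination e2 + (p : ℤ) * e1
          · simp [he1, hl1]; linear_combination -e1
        have hr2 : (r + Finsupp.single 0 n : Fin 3 →₀ ℕ) 2 < j := by
          have : d 2 = r 2 + l := by rw [hd]; simp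
          simp; omega
        have hφ : Ideal.Quotient.mk I (monomial d (1 : k)) =
            s • Ideal.Quotient.mk I (monomial (r + Finsupp.single 0 n) 1) := by
          have e1 : (monomial d 1 : MvPolynomial (Fin 3) k) =
              monomial r 1 * (X 1 ^ e * X 2 ^ l) := by
            rw [X_pow_eq_monomial, X_pow_eq_monomial, monomial_mul, monomial_mul, one_mul,
              one_mul, ← hd]
          have e2 : (monomial (r + Finsupp.single 0 n) 1 : MvPolynomial (Fin 3) k) =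
              monomial r 1 * X 0 ^ n := by
            rw [X_pow_eq_monomial, monomial_mul, one_mul]
          rw [e1, e2, map_mul, map_mul (Ideal.Quotient.mk I) (monomial r 1) (X 0 ^ n), hrel,
            mul_smul_comm]
        rcases ih _ hr2 _ rfl with h | ⟨a, d', hd', hw', h⟩
        · left; rw [hφ, h, smul_zero]
        · exact Or.inr ⟨s * a, d', hd', hw'.trans hw, by rw [hφ, h, smul_smul]⟩
      · refine Or.inr ⟨1, d, ⟨by omega, fun h => hdl ⟨by omega, by omega⟩, fun w h1 h2 => ?_⟩,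
          rfl, (one_smul _ _).symm⟩
        by_contra h3
        exact hde ⟨w, h1, h2, h3⟩
  refine rank_piece_le_one _ I ν fun d d' hd hd' => ?_
  rcases key _ d rfl with h | ⟨a, D, hD, hDw, h⟩
  · exact Or.inl ⟨0, by rw [h, zero_smul]⟩
  rcases key _ d' rfl with h' | ⟨b, D', hD', hDw', h'⟩
  · exact Or.inr ⟨0, by rw [h', zero_smul]⟩
  obtain rfl := normal_unique hpq hcop hm hc hi hir hD hD' (by rw [hDw, hDw', hd, hd'])
  rcases eq_or_ne b 0 with rfl | hb
  · exact Or.inr ⟨0, by rw [h', zero_smul, zero_smul]⟩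
  · exact Or.inl ⟨a / b, by rw [h, h', smul_smul, div_mul_cancel₀ _ hb]⟩

end GrothLib.InvHilbSL2
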